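import Mathlib
import Cfsg.Prelude.Def_SporCoxeter

/-!
# A presentation of the double cover of `PSU₆(2)`

Eight involutions on a hexagon with two pendant nodes.
-/

set_option autoImplicit false

namespace Cfsg.Agent.TcChain36.U62Pres

/-- The generators. -/
inductive Gen
  | c
  | d
  | e
  | f
  | g
  | h
  | i
  | w
  deriving DecidableEq

/-- the generator c as a word -/ abbrev c : FreeGroup Gen := FreeGroup.of Gen.c
/-- the generator d as a word -/ abbrev d : FreeGroup Gen := FreeGroup.of Gen.d
/-- the generator e as a word -/ abbrev e : FreeGroup Gen := FreeGroup.of Gen.e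
/-- the generator f as a word -/ abbrev f : FreeGroup Gen := FreeGroup.of Gen.f
/-- the generator g as a word -/ abbrev g : FreeGroup Gen := FreeGroup.of Gen.g
/-- the generator h as a word -/ abbrev h : FreeGroup Gen := FreeGroup.of Gen.h
/-- the generator i as a word -/ abbrev i : FreeGroup Gen := FreeGroup.of Gen.i
/-- the generator w as a word -/ abbrev w : FreeGroup Gen := FreeGroup.of Gen.w

/-- The graph. -/
def edges : List (Gen × ℕ × Gen) :=
  [(.c, 3, .d), (.d, 3, .e), (.d, 3, .h), (.e, 3, .f), (.f, 3, .g), (.f, 3, .w), (.h, 3, .i), (.i, 3, .w)]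

/-- The further relators. -/
def extra : List (FreeGroup Gen) := [
  (w * f * e * d * h * i * h * d * e * f) ^ 3,
  (d * e * f * w * i * h) ^ 5,
  (c * d * e * f * g * h * i) ^ 9,
  (d * h * e * f * g * w) ^ 5 ]

end Cfsg.Agent.TcChain36.U62Pres
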