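import Mathlib
import Cfsg.Agent.TcChain36.U62.Top.Step
import Cfsg.Agent.TcChain36.U62.C7.Step
import Cfsg.Agent.TcChain36.U62.Cyc.Step
import Cfsg.Agent.TcChain36.U62.A5.Step

set_option autoImplicit false
set_option maxRecDepth 100000
set_option linter.all false

namespace Cfsg.Agent.TcChain36.U62

open Cfsg.Spor Cfsg.Agent.Lib.TcFacts Cfsg.Agent.Lib.TcBits Cfsg.Agent.Lib.TcPres Cfsg.Agent.Lib.PresChain36

theorem bound_0 : Nat.card (KL RT ([] : List Cfsg.Agent.TcChain36.U62Pres.Gen)) ≤ 1 ∧ Nat.card (KL RT ([] : List Cfsg.Agent.TcChain36.U62Pres.Gen)) ≠ 0 := bound_nil RT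

theorem bound_1 : Nat.card (KL RT ([Cfsg.Agent.TcChain36.U62Pres.Gen.d, Cfsg.Agent.TcChain36.U62Pres.Gen.e, Cfsg.Agent.TcChain36.U62Pres.Gen.f, Cfsg.Agent.TcChain36.U62Pres.Gen.h, Cfsg.Agent.TcChain36.U62Pres.Gen.i] : List Cfsg.Agent.TcChain36.U62Pres.Gen)) ≤ (720 * 1) ∧ Nat.card (KL RT ([Cfsg.Agent.TcChain36.U62Pres.Gen.d, Cfsg.Agent.TcChain36.U62Pres.Gen.e, Cfsg.Agent.TcChain36.U62Pres.Gen.f, Cfsg.Agent.TcChain36.U62Pres.Gen.h, Cfsg.Agent.TcChain36.U62Pres.Gen.i] : List Cfsg.Agent.TcChain36.U62Pres.Gen)) ≠ 0 :=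
  bound_step A5.step bound_0

theorem bound_2 : Nat.card (KL RT ([Cfsg.Agent.TcChain36.U62Pres.Gen.d, Cfsg.Agent.TcChain36.U62Pres.Gen.e, Cfsg.Agent.TcChain36.U62Pres.Gen.f, Cfsg.Agent.TcChain36.U62Pres.Gen.h, Cfsg.Agent.TcChain36.U62Pres.Gen.i, Cfsg.Agent.TcChain36.U62Pres.Gen.w] : List Cfsg.Agent.TcChain36.U62Pres.Gen)) ≤ (81 * (720 * 1)) ∧ Nat.card (KL RT ([Cfsg.Agent.TcChain36.U62Pres.Gen.d, Cfsg.Agent.TcChain36.U62Pres.Gen.e, Cfsg.Agent.TcChain36.U62Pres.Gen.f, Cfsg.Agent.TcChain36.U62Pres.Gen.h, Cfsg.Agent.TcChain36.U62Pres.Gen.i, Cfsg.Agent.TcChain36.U62Pres.Gen.w] : List Cfsg.Agent.TcChain36.U62Pres.Gen)) ≠ 0 :=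
  bound_step Cyc.step bound_1

theorem bound_3 : Nat.card (KL RT ([Cfsg.Agent.TcChain36.U62Pres.Gen.c, Cfsg.Agent.TcChain36.U62Pres.Gen.d, Cfsg.Agent.TcChain36.U62Pres.Gen.e, Cfsg.Agent.TcChain36.U62Pres.Gen.f, Cfsg.Agent.TcChain36.U62Pres.Gen.h, Cfsg.Agent.TcChain36.U62Pres.Gen.i, Cfsg.Agent.TcChain36.U62Pres.Gen.w] : List Cfsg.Agent.TcChain36.U62Pres.Gen)) ≤ (224 * (81 * (720 * 1))) ∧ Nat.card (KL RT ([Cfsg.Agent.TcChain36.U62Pres.Gen.c, Cfsg.Agent.TcChain36.U62Pres.Gen.d, Cfsg.Agent.TcChain36.U62Pres.Gen.e, Cfsg.Agent.TcChain36.U62Pres.Gen.f, Cfsg.Agent.TcChain36.U62Pres.Gen.h, Cfsg.Agent.TcChain36.U62Pres.Gen.i, Cfsg.Agent.TcChain36.U62Pres.Gen.w] : List Cfsg.Agent.TcChain36.U62Pres.Gen)) ≠ 0 :=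
  bound_step C7.step bound_2

theorem bound_4 : Nat.card (KL RT ([Cfsg.Agent.TcChain36.U62Pres.Gen.c, Cfsg.Agent.TcChain36.U62Pres.Gen.d, Cfsg.Agent.TcChain36.U62Pres.Gen.e, Cfsg.Agent.TcChain36.U62Pres.Gen.f, Cfsg.Agent.TcChain36.U62Pres.Gen.g, Cfsg.Agent.TcChain36.U62Pres.Gen.h, Cfsg.Agent.TcChain36.U62Pres.Gen.i, Cfsg.Agent.TcChain36.U62Pres.Gen.w] : List Cfsg.Agent.TcChain36.U62Pres.Gen)) ≤ (1408 * (224 * (81 * (720 * 1)))) ∧ Nat.card (KL RT ([Cfsg.Agent.TcChain36.U62Pres.Gen.c, Cfsg.Agent.TcChain36.U62Pres.Gen.d, Cfsg.Agent.TcChain36.U62Pres.Gen.e, Cfsg.Agent.TcChain36.U62Pres.Gen.f, Cfsg.Agent.TcChain36.U62Pres.Gen.g, Cfsg.Agent.TcChain36.U62Pres.Gen.h, Cfsg.Agent.TcChain36.U62Pres.Gen.i, Cfsg.Agent.TcChain36.U62Pres.Gen.w] : List Cfsg.Agent.TcChain36.U62Pres.Gen)) ≠ 0 :=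
  bound_step Top.step bound_3

theorem hallT : ∀ x : Cfsg.Agent.TcChain36.U62Pres.Gen, x ∈ ([Cfsg.Agent.TcChain36.U62Pres.Gen.c, Cfsg.Agent.TcChain36.U62Pres.Gen.d, Cfsg.Agent.TcChain36.U62Pres.Gen.e, Cfsg.Agent.TcChain36.U62Pres.Gen.f, Cfsg.Agent.TcChain36.U62Pres.Gen.g, Cfsg.Agent.TcChain36.U62Pres.Gen.h, Cfsg.Agent.TcChain36.U62Pres.Gen.i, Cfsg.Agent.TcChain36.U62Pres.Gen.w] : List Cfsg.Agent.TcChain36.U62Pres.Gen) := by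
  intro x; cases x <;> decide

theorem upper : Nat.card (PresentedGroup RT) ≤ 18393661440 ∧ Finite (PresentedGroup RT) := by
  have h := finite_of_bound hallT bound_4
  exact ⟨h.1.trans (by norm_num), h.2⟩

end Cfsg.Agent.TcChain36.U62
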